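import Cfsg.Agent.Lib.ChevLiftSmall.Check
import Cfsg.Agent.Lib.CurtisTits.CertE8

/-! The check of the prime field lifting for type E8. -/

set_option autoImplicit false
set_option maxRecDepth 100000

namespace Cfsg.Agent.Lib.ChevLiftSmall

open Cfsg.Lie
open Cfsg.Agent.Lib.ChevStructure

theorem dataB_E8 : dataB Cert.E8.core Data.E8.fast = true := by decide +kernel

/-- The data for type E8. -/
theorem data_E8 : Data Cert.E8.core (choice Data.E8.fast) := dataB_sound _ _ dataB_E8

end Cfsg.Agent.Lib.ChevLiftSmall
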