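import Cfsg.Agent.Lib.ChevLiftSmall.Engine
import Cfsg.Agent.Lib.CurtisTits.Check
import Cfsg.Agent.Lib.ChevStructure.Fast

/-!
A Boolean check for the combinatorial conditions of the lifting over prime fields. The packed tables only
propose witnesses; every witness is verified on the datum.
-/

set_option autoImplicit false
set_option linter.unusedSectionVars false

namespace Cfsg.Agent.Lib.ChevLiftSmall

open Cfsg.Lie
open Cfsg.Agent.Lib.ChevStructure
open Cfsg.Agent.Lib.CurtisTits

variable {D : ChevalleyDatum} (C : Core D) (F : Fast)

/-- A natural number as a root. -/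
def toRt (D : ChevalleyDatum) (n : ℕ) : Option (Rt D) := if h : n < D.nroots then some ⟨n, h⟩ else none

/-- The sum of two roots, read off the packed tables. -/
def sumF (a b : ℕ) : Option ℕ :=
  if Nat.beq (F.code a b) 0 then none else some (Fast.tgt (F.code a b))

/-- Two roots whose sum is neither a root nor zero, by the packed tables. -/
def apartF (a b : ℕ) : Bool := Nat.beq (F.code a b) 0 && !Nat.beq a (F.rv b)

/-- Root elements commute. -/
def commB (r s : Rt D) : Bool :=
  decide (s = r) || (!decide (s = r.rev) && (terms r s).isEmpty)

/-- A decomposition. -/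
def decB (r a b : Rt D) : Bool :=
  !decide (b = a) && !decide (b = a.rev) && decide (terms a b = [(r, coef a b, 1, 1)]) &&
    (decide (coef a b = 1) || decide (coef a b = -1))

/-- A decomposition of `r` whose parts commute with `s`, proposed by the packed tables. -/
def wit (r s : Rt D) : Option (Rt D × Rt D) :=
  ((List.range F.n).findSome? fun b =>
    if apartF F b s.val then
      match sumF F (F.rv b) r.val with
      | none => none
      | some a => if apartF F a s.val then some (a, b) else none
    else none).bind fun p =>
    match toRt D p.1, toRt D p.2 with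
    | some a, some b => some (a, b)
    | _, _ => none

/-- Half of the check that lifts commute. -/
def halfB (r s : Rt D) : Bool :=
  match wit (D := D) F r s with
  | some (a, b) => decB r a b && commB a s && commB b s
  | none => false

/-- Lifts commute. -/
def okB (r s : Rt D) : Bool := commB r s && (halfB F r s || halfB F s r)

/-- A good decomposition. -/
def goodB (r a b : Rt D) : Bool :=
  decB r a b && decB r b a && okB F r r && okB F r a && okB F r b

/-- The roots of the rank two subsystems, by the packed tables. -/
def cand : List ℕ :=
  (List.range F.l).flatMap fun i => (List.range F.l).flatMap fun j =>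
    [F.p i, F.rv (F.p i), F.w i (F.p j), F.rv (F.w i (F.p j))]

/-- The chosen decomposition. -/
def choice (r : Rt D) : Rt D × Rt D :=
  (((cand F).findSome? fun b =>
      match sumF F (F.rv b) r.val with
      | none => none
      | some a => if (cand F).any (fun c => Nat.beq c a) then some (a, b) else none).bind fun p =>
    match toRt D p.1, toRt D p.2 with
    | some a, some b => some (a, b)
    | _, _ => none).getD (r, r)

/-- `b` is the image of `a` under the reflection in `s`. -/
def refB (s a b : Rt D) : Bool :=
  (idxs D).all fun m => decide (C.v b m = C.v a m - pr D s a * C.v s m)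

/-- The link of a decomposition with the chosen one. -/
def linkB (r A B a b : Rt D) : Bool :=
  (decide (a = A) && decide (b = B)) || (decide (b = A) && decide (a = B)) ||
    [a, b].any fun c =>
      match (sumF F A.val (F.rv c.val)).bind (toRt D) with
      | none => false
      | some s => okB F s r && okB F s.rev r && ((refB C s A a && refB C s B b) || (refB C s A b && refB C s B a))

/-- The condition on a pair of roots. -/
def pairB (x z : Rt D) : Bool :=
  match terms x z with
  | [] => okB F x z
  | e :: _ => goodB F e.1 x z && goodB F e.1 z x && linkB C F e.1 (choice F e.1).1 (choice F e.1).2 x z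

/-- All the conditions. -/
def dataB : Bool :=
  ((rts D).all fun r => !basB C r || goodB F r (choice F r).1 (choice F r).2) &&
  (idxs D).all fun i => (idxs D).all fun j =>
    let S := sub C i j
    S.all fun x => S.all fun z => decide (z = x) || decide (z = x.rev) || pairB C F x z

theorem commB_sound {r s : Rt D} (h : commB r s = true) : CommG r s := by
  simp only [commB, Bool.or_eq_true, Bool.and_eq_true, decide_eq_true_eq, Bool.not_eq_true',
    decide_eq_false_iff_not, List.isEmpty_iff] at h
  by_cases e : s = r
  · exact Or.inl e
  · exact Or.inr ⟨e, (h.resolve_left e).1, (h.resolve_left e).2⟩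

theorem decB_sound {r a b : Rt D} (h : decB r a b = true) : Dec r a b := by
  simp only [decB, Bool.or_eq_true, Bool.and_eq_true, decide_eq_true_eq, Bool.not_eq_true',
    decide_eq_false_iff_not] at h
  exact ⟨h.1.1.1, h.1.1.2, h.1.2, h.2⟩

theorem halfB_sound {r s : Rt D} (h : halfB F r s = true) : ∃ a b, Dec r a b ∧ CommG a s ∧ CommG b s := by
  unfold halfB at h
  split at h
  · rename_i a b _
    simp only [Bool.and_eq_true] at h
    exact ⟨a, b, decB_sound h.1.1, commB_sound h.1.2, commB_sound h.2⟩
  · exact absurd h Bool.false_ne_true

theorem okB_sound {r s : Rt D} (h : okB F r s = true) : Ok r s := by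
  simp only [okB, Bool.and_eq_true, Bool.or_eq_true] at h
  refine ⟨commB_sound h.1, ?_⟩
  rcases h.2 with h' | h' <;> obtain ⟨a, b, e⟩ := halfB_sound F h'
  exacts [⟨a, b, Or.inl e⟩, ⟨a, b, Or.inr e⟩]

theorem goodB_sound {r a b : Rt D} (h : goodB F r a b = true) : Good r a b := by
  simp only [goodB, Bool.and_eq_true] at h
  exact ⟨decB_sound h.1.1.1.1, decB_sound h.1.1.1.2, okB_sound F h.1.1.2, okB_sound F h.1.2, okB_sound F h.2⟩

theorem refB_sound {s a b : Rt D} (h : refB C s a b = true) : C.v b = C.v a - pr D s a • C.v s := by
  simp only [refB, List.all_eq_true, decide_eq_true_eq] at h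
  funext m
  simpa using h m (mem_idxs m)

theorem dataB_sound (h : dataB C F = true) : Data C (choice F) := by
  simp only [dataB, Bool.and_eq_true, List.all_eq_true, Bool.or_eq_true, Bool.not_eq_true', decide_eq_true_eq] at h
  refine ⟨fun r hr => ?_, fun i j x z hx hz n1 n2 => ?_⟩
  · rcases h.1 r (mem_rts r) with e | e
    · rw [(basB_iff C r).2 hr] at e; exact absurd e (by simp)
    · exact goodB_sound F e
  · have hmem : ∀ q, InS C i j q → q ∈ sub C i j := fun q hq => by simp [sub, mem_rts, inB_iff, hq]
    have e := (h.2 i (mem_idxs i) j (mem_idxs j) x (hmem x hx) z (hmem z hz)).resolve_left (by simp [n1, n2])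
    unfold pairB at e
    split at e
    · rename_i ht
      exact Or.inl ⟨ht, okB_sound F e⟩
    · rename_i t l ht
      simp only [Bool.and_eq_true] at e
      obtain ⟨⟨e1, e2⟩, e3⟩ := e
      refine Or.inr ⟨t.1, goodB_sound F e1, goodB_sound F e2, ?_⟩
      simp only [linkB, Bool.or_eq_true, Bool.and_eq_true, decide_eq_true_eq, List.any_eq_true] at e3
      rcases e3 with (⟨p, q⟩ | ⟨p, q⟩) | ⟨c, -, e4⟩
      · exact Or.inl (Or.inl (Prod.ext p q))
      · exact Or.inl (Or.inr (Prod.ext p q))
      · split at e4
        · exact absurd e4 Bool.false_ne_true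
        · rename_i s _
          simp only [Bool.and_eq_true, Bool.or_eq_true] at e4
          refine Or.inr ⟨s, okB_sound F e4.1.1, okB_sound F e4.1.2, ?_⟩
          exact e4.2.imp (fun p => ⟨refB_sound C p.1, refB_sound C p.2⟩)
            fun p => ⟨refB_sound C p.1, refB_sound C p.2⟩

end Cfsg.Agent.Lib.ChevLiftSmall
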