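import Cfsg.Agent.Lib.CurtisTits.Iso
import Cfsg.Agent.Lib.ChevStructure.RankOne
import Cfsg.Agent.Lib.ChevStructure.WeylN
import Cfsg.Agent.Lib.Schur.Fusion
import Cfsg.Prelude.Def_SteinbergCover

/-!
Lifting Steinberg's relations through central extensions of a simply laced Chevalley group over a prime field.

A root element is, up to the kernel, the commutator of the lifts of two root elements; this gives the
commutation of the lifts, the bilinearity of the commutators, and, by conjugating with a reflection fixing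
the root, their independence of the decomposition.
-/

set_option autoImplicit false
set_option linter.unusedSectionVars false

namespace Cfsg.Agent.Lib.ChevLiftSmall

open Cfsg.Lie
open Cfsg.Agent.Lib.ChevStructure
open Cfsg.Agent.Lib.CurtisTits
open Cfsg.Agent.Lib.Schur.Fusion (commutator_congr)
open scoped MatrixGroups Matrix commutatorElement

variable {D : ChevalleyDatum}

/-- The coefficient of the first term of the commutator formula. -/
def coef (a b : Rt D) : ℤ := (((terms a b).head?).map fun e => e.2.1).getD 0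

/-- `r` is the sum of `a` and `b`, the commutator formula having the single term at `r`. -/
def Dec (r a b : Rt D) : Prop :=
  b ≠ a ∧ b ≠ a.rev ∧ terms a b = [(r, coef a b, 1, 1)] ∧ (coef a b = 1 ∨ coef a b = -1)

/-- The root elements of two roots commute. -/
def CommG (r s : Rt D) : Prop := s = r ∨ (s ≠ r ∧ s ≠ r.rev ∧ terms r s = [])

/-- A witness that lifts of the root elements of two roots commute. -/
def Ok (r s : Rt D) : Prop :=
  CommG r s ∧ ∃ a b, (Dec r a b ∧ CommG a s ∧ CommG b s) ∨ (Dec s a b ∧ CommG a r ∧ CommG b r)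

/-- A decomposition along which the commutators are bilinear. -/
def Good (r a b : Rt D) : Prop :=
  Dec r a b ∧ Dec r b a ∧ Ok r r ∧ Ok r a ∧ Ok r b

theorem exists_reflection (C : Core D) {K : Type*} [Field K] (r : Rt D) :
    ∀ u : Kˣ, ∃ σ : Equiv.Perm (Rt D),
      C.Acts (C.nR K r u) σ ∧ ∀ q, C.v (σ q) = C.v q - pr D r q • C.v r := by
  refine C.ind (fun r => ∀ u : Kˣ, ∃ σ : Equiv.Perm (Rt D),
      C.Acts (C.nR K r u) σ ∧ ∀ q, C.v (σ q) = C.v q - pr D r q • C.v r) (fun i u => ?_)
    (fun i r ih u => ?_) r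
  · obtain ⟨c, hc⟩ := C.nR_p K i u
    refine ⟨C.sref i, ?_, fun q => by rw [C.sref_apply, C.v_w, C.pr_p, C.v_p]⟩
    rw [hc]
    have := C.acts_HT_wprod K c [i]
    simpa [Core.wprod, Core.pprod] using this
  · obtain ⟨σ, hσ, hv⟩ := ih (C.ηU K i r * u)
    have hP : C.Acts (C.P K i) (C.sref i) := by
      simpa [Core.wprod, Core.pprod] using C.acts_wprod K [i]
    refine ⟨C.sref i * σ * (C.sref i)⁻¹, ?_, fun q => ?_⟩
    · have e : C.nR K (C.w i r) u = C.P K i * C.nR K r (C.ηU K i r * u) * (C.P K i)⁻¹ := by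
        rw [C.P_nR_conj, ← mul_assoc, show C.ηU K i r * C.ηU K i r = 1 from Units.ext (C.ηU K i r).val_inv,
          one_mul]
      rw [e]
      exact C.acts_mul K (C.acts_mul K hP hσ) (C.acts_inv K hP)
    · have hinv : (C.sref i)⁻¹ = C.sref i := inv_eq_of_mul_eq_one_right (C.sref_mul_self i)
      rw [hinv, Equiv.Perm.mul_apply, Equiv.Perm.mul_apply, C.sref_apply, C.sref_apply, C.v_w]
      have hA : A D i (σ (C.w i q)) = A D i (C.w i q) - pr D r (C.w i q) * A D i r := by
        rw [C.A_lin i (σ (C.w i q)), C.A_lin i (C.w i q), C.A_lin i r, hv, Finset.mul_sum,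
          ← Finset.sum_sub_distrib]
        refine Finset.sum_congr rfl fun m _ => ?_
        rw [Pi.sub_apply, Pi.smul_apply, smul_eq_mul]
        ring
      have hp : pr D (C.w i r) q = pr D r (C.w i q) := by
        conv_lhs => rw [← C.w_w i q]
        exact C.pr_w i r (C.w i q)
      rw [hA, hv, hp, C.v_w i r, C.v_w i q, C.A_w, C.A_p]
      module

variable {K : Type*} [Field K] {E : Type*} [Group E]

/-- Chosen lifts of root elements in a central extension. -/
structure Lf (C : Core D) (π : E →* GL D.Idx K) where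
  ker_le : π.ker ≤ Subgroup.center E
  a : Rt D → K → E
  spec_a : ∀ r t, π (a r t) = C.X K r t
  hyp : CommOK C

variable {C : Core D} {π : E →* GL D.Idx K} (L : Lf C π)

namespace Lf

/-- The commutator of two lifts. -/
def f (a b : Rt D) (t u : K) : E := ⁅L.a b u, L.a a t⁆

/-- The lift of `x_r(v)` obtained from the decomposition `r = a + b`. -/
def g (a b : Rt D) (v : K) : E := L.f a b (-((coef a b : K) * v)) 1

include L in
theorem commute_congr {u u' w w' : E} (hu : π u = π u') (hw : π w = π w') (h : Commute u w) :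
    Commute u' w' :=
  commutatorElement_eq_one_iff_commute.1 ((commutator_congr L.ker_le hu hw).symm.trans
    (commutatorElement_eq_one_iff_commute.2 h))

theorem coef_sq {r a b : Rt D} (h : Dec r a b) : (coef a b : K) * (coef a b : K) = 1 := by
  rcases h.2.2.2 with e | e <;> rw [e] <;> norm_num

include L in
theorem xcomm {r s : Rt D} (h : CommG r s) (t u : K) : Commute (C.X K r t) (C.X K s u) := by
  rcases h with rfl | ⟨h1, h2, h3⟩
  · show C.X K s t * C.X K s u = C.X K s u * C.X K s t
    rw [C.X_add, C.X_add, add_comm]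
  · have e := X_comm C L.hyp r s h1 h2 t u
    rw [h3] at e
    simp only [evalT, List.map_nil, List.prod_nil] at e
    show C.X K r t * C.X K s u = C.X K s u * C.X K r t
    calc C.X K r t * C.X K s u
        = C.X K r t * C.X K s u *
            ((C.X K s u)⁻¹ * (C.X K r t)⁻¹ * C.X K s u * C.X K r t) := by rw [e, mul_one]
      _ = _ := by group

theorem spec_f {r a b : Rt D} (h : Dec r a b) (t u : K) :
    π (L.f a b t u) = C.X K r (-((coef a b : K) * t * u)) := by
  have e := X_comm C L.hyp a b h.1 h.2.1 (-t) (-u)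
  rw [h.2.2.1] at e
  simp only [evalT, List.map_cons, List.map_nil, List.prod_cons, List.prod_nil, mul_one, neg_neg, pow_one] at e
  rw [f, map_commutatorElement, L.spec_a, L.spec_a, commutatorElement_def, C.X_inv, C.X_inv,
    show -((coef a b : K) * t * u) = (coef a b : K) * t * -u by ring, ← e, C.X_inv, C.X_inv, neg_neg, neg_neg]

theorem spec_g {r a b : Rt D} (h : Dec r a b) (v : K) : π (L.g a b v) = C.X K r v := by
  rw [g, L.spec_f h]
  congr 1
  linear_combination v * coef_sq (K := K) h

/-- Lifts commute if one root is a sum of two roots commuting with the other. -/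
theorem commute_of_dec {r s a b : Rt D} (h : Dec r a b) (ha : CommG a s) (hb : CommG b s) (t u : K) :
    Commute (L.a r t) (L.a s u) := by
  refine L.commute_congr (u := L.g a b t) (by rw [L.spec_g h, L.spec_a]) rfl ?_
  have hx : ∀ (q : Rt D) (v : K), CommG q s → π (L.a s u * L.a q v * (L.a s u)⁻¹) = π (L.a q v) := by
    intro q v hq
    rw [map_mul, map_mul, map_inv, L.spec_a, L.spec_a, ← (L.xcomm hq v u).eq, mul_inv_cancel_right]
  have e : L.a s u * L.g a b t * (L.a s u)⁻¹ = L.g a b t := by
    rw [g, f, conjugate_commutatorElement]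
    exact commutator_congr L.ker_le (hx b _ hb) (hx a _ ha)
  exact (mul_inv_eq_iff_eq_mul.1 e).symm

theorem commute {r s : Rt D} (h : Ok r s) (t u : K) : Commute (L.a r t) (L.a s u) := by
  obtain ⟨-, a, b, ⟨h1, h2, h3⟩ | ⟨h1, h2, h3⟩⟩ := h
  · exact L.commute_of_dec h1 h2 h3 t u
  · exact (L.commute_of_dec h1 h2 h3 u t).symm

theorem f_add_left {r a b : Rt D} (h : Dec r a b) (hra : Ok r a) (t t' u : K) :
    L.f a b (t + t') u = L.f a b t u * L.f a b t' u := by
  have hc : Commute (L.f a b t' u) (L.a a t) :=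
    L.commute_congr (by rw [L.spec_a, L.spec_f h]) rfl (L.commute hra (-((coef a b : K) * t' * u)) t)
  rw [f, commutator_congr L.ker_le rfl (show π (L.a a (t + t')) = π (L.a a t * L.a a t') by
      rw [map_mul, L.spec_a, L.spec_a, L.spec_a, C.X_add]),
    commutatorElement_mul_right_eq_mul_conj]
  show L.f a b t u * L.a a t * L.f a b t' u * (L.a a t)⁻¹ = _
  rw [mul_assoc (L.f a b t u), ← hc.eq, mul_assoc, mul_assoc, mul_inv_cancel, mul_one]

theorem f_add_right {r a b : Rt D} (h : Dec r a b) (hrr : Ok r r) (hrb : Ok r b) (t u u' : K) :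
    L.f a b t (u + u') = L.f a b t u * L.f a b t u' := by
  have hc : Commute (L.f a b t u') (L.a b u) :=
    L.commute_congr (by rw [L.spec_a, L.spec_f h]) rfl (L.commute hrb (-((coef a b : K) * t * u')) u)
  have hff : Commute (L.f a b t u') (L.f a b t u) :=
    L.commute_congr (by rw [L.spec_a, L.spec_f h]) (by rw [L.spec_a, L.spec_f h])
      (L.commute hrr (-((coef a b : K) * t * u')) (-((coef a b : K) * t * u)))
  rw [f, commutator_congr L.ker_le (show π (L.a b (u + u')) = π (L.a b u * L.a b u') by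
      rw [map_mul, L.spec_a, L.spec_a, L.spec_a, C.X_add]) rfl,
    commutatorElement_mul_left_eq_conj_mul]
  show L.a b u * L.f a b t u' * (L.a b u)⁻¹ * L.f a b t u = _
  rw [← hc.eq, mul_inv_cancel_right, hff.eq]

variable (hgen : ∀ x : K, ∃ n : ℕ, (n : K) = x)
include hgen

theorem f_nat {r a b : Rt D} (h : Good r a b) (n m : ℕ) :
    L.f a b (n : K) (m : K) = L.f a b 1 1 ^ (n * m) := by
  obtain ⟨hd, -, hrr, hra, hrb⟩ := h
  have left : ∀ (u : K) (n : ℕ), L.f a b (n : K) u = L.f a b 1 u ^ n := by
    intro u n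
    induction n with
    | zero =>
      have e := L.f_add_left hd hra 0 0 u
      rw [add_zero] at e
      rw [Nat.cast_zero, pow_zero]
      exact left_eq_mul.1 e
    | succ n ih => rw [Nat.cast_succ, L.f_add_left hd hra, ih, pow_succ]
  have right : ∀ n : ℕ, L.f a b 1 (n : K) = L.f a b 1 1 ^ n := by
    intro n
    induction n with
    | zero =>
      have e := L.f_add_right hd hrr hrb 1 0 0
      rw [add_zero] at e
      rw [Nat.cast_zero, pow_zero]
      exact left_eq_mul.1 e
    | succ n ih => rw [Nat.cast_succ, L.f_add_right hd hrr hrb, ih, pow_succ]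
  rw [left, right, ← pow_mul, mul_comm]

theorem f_eq_g {r a b : Rt D} (h : Good r a b) (t u : K) :
    L.f a b t u = L.g a b (-((coef a b : K) * t * u)) := by
  obtain ⟨n, rfl⟩ := hgen t
  obtain ⟨m, rfl⟩ := hgen u
  rw [g, show -((coef a b : K) * -((coef a b : K) * (n : K) * (m : K))) = ((n * m : ℕ) : K) by
      push_cast; linear_combination ((n : K) * (m : K)) * coef_sq (K := K) h.1,
    ← Nat.cast_one, L.f_nat hgen h, L.f_nat hgen h, mul_one]

omit hgen in
theorem g_add {r a b : Rt D} (h : Good r a b) (v w : K) : L.g a b (v + w) = L.g a b v * L.g a b w := by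
  rw [g, show -((coef a b : K) * (v + w)) = -((coef a b : K) * v) + -((coef a b : K) * w) by ring,
    L.f_add_left h.1 h.2.2.2.1]
  rfl

theorem eq_g {r a b : Rt D} (h : Good r a b) {z : E} {t u v : K} (hz : z = L.f a b t u)
    (hπ : π z = C.X K r v) : z = L.g a b v := by
  rw [hz, L.f_eq_g hgen h]
  congr 1
  rw [hz, L.spec_f h.1] at hπ
  refine eq_of_sub_eq_zero (C.X_eq_one (r := r) ?_)
  rw [sub_eq_add_neg, ← C.X_add, hπ, C.X_add, add_neg_cancel, C.X_zero]

theorem g_ext {r a b a' b' : Rt D} (h : Good r a b) (h' : Good r a' b') (h1 : L.g a b 1 = L.g a' b' 1) :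
    L.g a b = L.g a' b' := by
  have nat : ∀ {a b : Rt D}, Good r a b → ∀ n : ℕ, L.g a b (n : K) = L.g a b 1 ^ n := by
    intro a b h n
    induction n with
    | zero =>
      have e := L.g_add h 0 0
      rw [add_zero] at e
      rw [Nat.cast_zero, pow_zero]
      exact left_eq_mul.1 e
    | succ n ih => rw [Nat.cast_succ, L.g_add h, ih, pow_succ]
  funext v
  obtain ⟨n, rfl⟩ := hgen v
  rw [nat h, nat h', h1]

theorem g_swap {r a b : Rt D} (h : Good r a b) (h' : Good r b a) : L.g b a = L.g a b := by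
  refine L.g_ext hgen h' h ?_
  obtain ⟨n, hn⟩ := hgen (-((coef b a : K) * 1))
  have hinv : ∀ t u : K, (L.f a b t u)⁻¹ = L.f a b (-t) u := by
    intro t u
    refine inv_eq_of_mul_eq_one_right ?_
    rw [← L.f_add_left h.1 h.2.2.2.1, add_neg_cancel]
    obtain ⟨m, rfl⟩ := hgen u
    rw [← Nat.cast_zero, L.f_nat hgen h, zero_mul, pow_zero]
  refine L.eq_g hgen h (t := -1) (u := -((coef b a : K) * 1)) ?_ (L.spec_g h'.1 1)
  rw [← hinv, g, f, f, commutatorElement_inv]

theorem g_refl {r s a b a' b' : Rt D} (h : Good r a b) (h' : Good r a' b') (hs : Ok s r) (hs' : Ok s.rev r)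
    (ha : C.v a' = C.v a - pr D s a • C.v s) (hb : C.v b' = C.v b - pr D s b • C.v s) :
    L.g a b = L.g a' b' := by
  refine L.g_ext hgen h h' ?_
  obtain ⟨σ, hσ, hv⟩ := exists_reflection C (K := K) s 1
  have ea : σ a = a' := C.v_inj (by rw [hv, ha])
  have eb : σ b = b' := C.v_inj (by rw [hv, hb])
  set n : E := L.a s 1 * L.a s.rev (-1) * L.a s 1 with hn
  have hπn : π n = C.nR K s 1 := by
    rw [hn, map_mul, map_mul, L.spec_a, L.spec_a, Core.nR]
    simp
  have hc : Commute n (L.g a b 1) := by
    have : ∀ q v, Ok q r → Commute (L.a q v) (L.g a b 1) := fun q v hq =>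
      L.commute_congr rfl (by rw [L.spec_a, L.spec_g h.1]) (L.commute hq v 1)
    exact ((this s 1 hs).mul_left (this s.rev (-1) hs')).mul_left (this s 1 hs)
  obtain ⟨ea', hea⟩ := hσ a
  obtain ⟨eb', heb⟩ := hσ b
  refine L.eq_g hgen h' (t := (ea' : K) * -((coef a b : K) * 1)) (u := (eb' : K) * 1) ?_ (L.spec_g h.1 1)
  calc L.g a b 1 = n * L.g a b 1 * n⁻¹ := by rw [hc.eq, mul_inv_cancel_right]
    _ = _ := by
      rw [g, f, f, conjugate_commutatorElement]
      refine commutator_congr L.ker_le ?_ ?_
      · rw [map_mul, map_mul, map_inv, hπn, L.spec_a, L.spec_a, heb, eb]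
      · rw [map_mul, map_mul, map_inv, hπn, L.spec_a, L.spec_a, hea, ea]

end Lf

/-- The combinatorial conditions: a choice of decompositions and the links between them. -/
structure Data (C : Core D) (ch : Rt D → Rt D × Rt D) : Prop where
  good : ∀ r, Bas C r → Good r (ch r).1 (ch r).2
  pair : ∀ (i j : Fin D.rank) (x z : Rt D), InS C i j x → InS C i j z → z ≠ x → z ≠ x.rev →
    (terms x z = [] ∧ Ok x z) ∨ ∃ r, Good r x z ∧ Good r z x ∧
      (((x, z) = ch r ∨ (z, x) = ch r) ∨ ∃ s, Ok s r ∧ Ok s.rev r ∧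
        ((C.v x = C.v (ch r).1 - pr D s (ch r).1 • C.v s ∧ C.v z = C.v (ch r).2 - pr D s (ch r).2 • C.v s) ∨
          (C.v z = C.v (ch r).1 - pr D s (ch r).1 • C.v s ∧ C.v x = C.v (ch r).2 - pr D s (ch r).2 • C.v s)))

section

universe u

variable {K : Type u} [Field K] {C : Core D} {T : Tree C}

/-- **Lifting** over a prime field. -/
theorem exists_lift (cert : Cert.{u} C T) {ch : Rt D → Rt D × Rt D} (hd : Data C ch)
    (hgen : ∀ x : K, ∃ n : ℕ, (n : K) = x) {E : Type*} [Group E] (π : E →* GL D.Idx K)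
    (hk : π.ker ≤ Subgroup.center E) (hπ : ∀ g ∈ D.group K, ∃ e, π e = g) :
    ∃ τ : D.SteinbergCover K →* E, ∀ (r : Rt D) (t : K), π (τ (D.scGen K r.val t)) = C.X K r t := by
  classical
  have hX : ∀ (r : Rt D) (t : K), ∃ e, π e = C.X K r t := fun r t => hπ _ (C.X_mem_group r t)
  choose a ha using hX
  let L : Lf C π := ⟨hk, a, ha, cert.hyp.ok⟩
  let y : Rt D → K → E := fun r => L.g (ch r).1 (ch r).2
  have spec_y : ∀ r, Bas C r → ∀ t, π (y r t) = C.X K r t := fun r hr t => L.spec_g (hd.good r hr).1 t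
  have hrels : ∀ g ∈ ctwRels D K,
      FreeGroup.lift (fun x : Fin D.nroots × K => if Bas C x.1 then y x.1 x.2 else 1) g = 1 := by
    rintro g ((⟨r, t, hr, hn, rfl⟩ | ⟨i, j, r, t, u, H, rfl⟩) | ⟨i, j, r, s, t, u, H, H', hne, hne', rfl⟩)
    · lift r to Rt D using hr
      simp only [ChevalleyDatum.stX, dif_pos r.isLt, FreeGroup.lift_apply_of]
      rw [if_neg]
      exact fun ⟨a, b, hab⟩ => hn a b ((inS_iff C cert.hyp).2 hab)
    · obtain ⟨a, b, x, -, -, rfl, hs⟩ := exists_inS C cert.hyp H
      simp only [map_mul, map_inv, ChevalleyDatum.stX, dif_pos x.isLt, FreeGroup.lift_apply_of, Fin.eta,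
        if_pos (bas_of C hs)]
      show y x t * y x u * (y x (t + u))⁻¹ = 1
      rw [show y x (t + u) = y x t * y x u from L.g_add (hd.good x (bas_of C hs)) t u, mul_inv_cancel]
    · obtain ⟨a, b, x, rfl, rfl, rfl, hx⟩ := exists_inS C cert.hyp H
      lift s to Rt D using H'.1 with z
      have hz : InS C a b z := (inS_iff C cert.hyp).1 H'
      have h0 : z ≠ x := fun e => hne (congrArg Fin.val e)
      have h1 : z ≠ x.rev := fun e => hne' (by rw [e, neg_val C cert.hyp x])
      have hbx := bas_of C hx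
      have hbz := bas_of C hz
      have e1 : FreeGroup.lift (fun x : Fin D.nroots × K => if Bas C x.1 then y x.1 x.2 else 1)
          (D.stWord (D.commWord K x.val z.val t u)) = evalT y t u (terms x z) := by
        rw [commWord_eq cert.hyp.ok x z h0 h1]
        simp only [ChevalleyDatum.stWord, map_list_prod, List.map_map, evalT]
        congr 1
        refine List.map_congr_left fun e he => ?_
        simp only [Function.comp_apply, ChevalleyDatum.stX, dif_pos e.1.isLt, FreeGroup.lift_apply_of, Fin.eta]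
        rw [if_pos (bas_of C (inS_terms C cert.hyp h0 h1 hx hz e he))]
      simp only [map_mul, map_inv, e1, ChevalleyDatum.stX, dif_pos x.isLt, dif_pos z.isLt,
        FreeGroup.lift_apply_of, Fin.eta, if_pos hbx, if_pos hbz]
      rw [mul_inv_eq_one]
      rcases hd.pair a b x z hx hz h0 h1 with ⟨ht, hok⟩ | ⟨r, hg, hg', hlink⟩
      · have hc : Commute (y x t) (y z u) := L.commute_congr (by rw [spec_y x hbx, L.spec_a])
          (by rw [spec_y z hbz, L.spec_a]) (L.commute hok t u)
        rw [ht]
        simp only [evalT, List.map_nil, List.prod_nil]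
        rw [mul_assoc, ← hc.eq]
        group
      · have hr : Bas C r := bas_of C (inS_terms C cert.hyp h0 h1 hx hz _ (by
          rw [hg.1.2.2.1]; exact List.mem_singleton_self _))
        have hgr := hd.good r hr
        have hgr' : Good r (ch r).2 (ch r).1 := ⟨hgr.2.1, hgr.1, hgr.2.2.1, hgr.2.2.2.2, hgr.2.2.2.1⟩
        have hy : y r = L.g x z := by
          rcases hlink with (e | e) | ⟨s, hs, hs', ⟨p1, p2⟩ | ⟨p1, p2⟩⟩
          · show L.g (ch r).1 (ch r).2 = _
            rw [← e]
          · show L.g (ch r).1 (ch r).2 = _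
            rw [← e]
            exact L.g_swap hgen hg hg'
          · exact L.g_refl hgen hgr hg hs hs' p1 p2
          · exact (L.g_refl hgen hgr hg' hs hs' p1 p2).trans (L.g_swap hgen hg hg')
        rw [hg.1.2.2.1]
        simp only [evalT, List.map_cons, List.map_nil, List.prod_cons, List.prod_nil, mul_one, pow_one]
        rw [hy]
        have e2 : (y z u)⁻¹ * (y x t)⁻¹ * y z u * y x t = L.f x z (-t) (-u) := by
          rw [show (y z u)⁻¹ * (y x t)⁻¹ * y z u * y x t = ⁅(y z u)⁻¹, (y x t)⁻¹⁆ by
            rw [commutatorElement_def, inv_inv, inv_inv]]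
          refine commutator_congr L.ker_le ?_ ?_
          · rw [map_inv, spec_y z hbz, L.spec_a, C.X_inv]
          · rw [map_inv, spec_y x hbx, L.spec_a, C.X_inv]
        rw [e2, L.f_eq_g hgen hg]
        congr 1
        ring
  refine ⟨(PresentedGroup.toGroup hrels).comp (psiW cert), fun r t => ?_⟩
  have e : π.comp (PresentedGroup.toGroup hrels) = theta C cert.hyp := by
    refine PresentedGroup.ext fun ⟨x, w⟩ => ?_
    rw [MonoidHom.comp_apply, PresentedGroup.toGroup.of, theta, PresentedGroup.toGroup.of, thetaGen]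
    split_ifs with hx
    · exact spec_y x hx w
    · exact map_one π
  rw [MonoidHom.comp_apply, psiW_gen cert, ← MonoidHom.comp_apply, e, theta_Y C cert.hyp T]

end

end Cfsg.Agent.Lib.ChevLiftSmall
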