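import Cfsg.Agent.Lib.ChevLiftSmall.Engine
import Cfsg.Agent.Lib.ChevLift.Mult

/-!
Schur multipliers from a lifting property, whatever its origin.
-/

set_option autoImplicit false
set_option linter.unusedSectionVars false

namespace Cfsg.Agent.Lib.ChevLiftSmall

open Cfsg Cfsg.Lie
open Cfsg.Agent.Lib.ChevStructure
open Cfsg.Agent.Lib.CurtisTits
open Cfsg.Agent.Lib.ChevLift (lift_surjective hasCyclicSchurMultiplier_one_of_lifts coverMap_eq_one_iff
  finite_steinberg finite_group commutator_steinberg)
open scoped MatrixGroups Matrix commutatorElement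

universe u

variable {D : ChevalleyDatum} {K : Type u} [Field K] {C : Core D} {T : Tree C}

/-- The presented group maps to every central extension of the Chevalley group. -/
def Lifting (cert : CurtisTits.Cert.{u} C T) (hs : SuppOne C) : Prop :=
  ∀ (Δ : Type u) [Group Δ] (τ : Δ →* ↥(D.group K)), Function.Surjective τ → τ.ker ≤ Subgroup.center Δ →
    ∃ φ : D.SteinbergCover K →* Δ, τ.comp φ = coverMap cert hs

theorem lifting_of_cond (cert : CurtisTits.Cert.{u} C T) (hs : SuppOne C) (hc : ChevLift.Cond C K) :
    Lifting (K := K) cert hs :=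
  fun _ _ τ h1 h2 => ChevLift.exists_lift_group cert hc hs τ h1 h2

theorem lifting_of_data (cert : CurtisTits.Cert.{u} C T) (hs : SuppOne C) {ch : Rt D → Rt D × Rt D}
    (hd : Data C ch) (hgen : ∀ x : K, ∃ n : ℕ, (n : K) = x) : Lifting (K := K) cert hs := by
  intro Δ _ τ h1 h2
  obtain ⟨φ, hφ⟩ := exists_lift cert hd hgen ((D.group K).subtype.comp τ)
    (fun x hx => h2 (Subtype.ext (by simpa using hx)))
    (fun g hg => by
      obtain ⟨e, he⟩ := h1 ⟨g, hg⟩
      exact ⟨e, by simp [he]⟩)
  refine ⟨φ, PresentedGroup.ext fun ⟨r, t⟩ => ?_⟩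
  rw [← scGen_of]
  exact Subtype.ext ((hφ r t).trans (coverMap_gen cert hs r t).symm)

section

variable [Finite K] (cert : CurtisTits.Cert.{u} C T) (hs : SuppOne C)
include cert hs

/-- Trivial centre of the presented group: trivial multiplier. -/
theorem hasCyclic_one (hU : Lifting (K := K) cert hs) (hz : Subgroup.center (D.SteinbergGroup K) = ⊥) :
    HasCyclicSchurMultiplier ↥(D.group K) 1 := by
  have := finite_group (K := K) cert hs
  refine hasCyclicSchurMultiplier_one_of_lifts (coverMap cert hs) ⟨?_, coverMap_surj cert hs⟩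
    fun Δ _ τ h1 h2 => hU Δ τ h1 h2
  rw [injective_iff_map_eq_one]
  intro x hx
  have := (coverMap_eq_one_iff cert hs x).1 hx
  rw [hz, Subgroup.mem_bot] at this
  exact (coverEquiv cert hs).map_eq_one_iff.1 this

/-- Cyclic centre of order one or a prime. -/
theorem hasCyclic (hU : Lifting (K := K) cert hs) (hP : commutator (D.SteinbergCover K) = ⊤) {n : ℕ}
    (hn : n = 1 ∨ n.Prime) (hcard : Nat.card (Subgroup.center (D.SteinbergGroup K)) = n) :
    HasCyclicSchurMultiplier ↥(D.group K) n := by
  have := finite_group (K := K) cert hs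
  have hfin := finite_steinberg (K := K) cert hs
  have hker : (stMap (K := K) cert hs).ker = Subgroup.center (D.SteinbergGroup K) := stMap_ker cert hs
  have hcardk : Nat.card (stMap (K := K) cert hs).ker = Nat.card (Multiplicative (ZMod n)) := by
    rw [hker, hcard, Nat.card_congr Multiplicative.toAdd, Nat.card_zmod]
  have hst : IsStemExtension (stMap (K := K) cert hs) :=
    ⟨stMap_surj cert hs, hker.le, by rw [commutator_steinberg cert hs hP]; exact le_top⟩
  have hcyc : IsCyclic (stMap (K := K) cert hs).ker := by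
    rcases hn with h | h
    · exact @isCyclic_of_subsingleton _ _ (Finite.card_le_one_iff_subsingleton.1 (by rw [hker, hcard, h]))
    · have := Fact.mk h
      exact isCyclic_of_prime_card (p := n) (by rw [hker, hcard])
  refine Lib.Multiplier.hasSchurMultiplier_of_cover (stMap cert hs) hst (mulEquivOfCyclicCardEq hcardk) ?_
  intro Δ _ _ τ hτ
  obtain ⟨φ, hφ⟩ := hU Δ τ hτ.1 hτ.2.1
  have hsurj := lift_surjective (coverMap cert hs) (coverMap_surj cert hs) τ hτ φ hφ
  have : Finite (coverMap (K := K) cert hs).ker :=
    Finite.of_injective (fun x => coverEquiv cert hs x.1) fun x y h => Subtype.ext ((coverEquiv cert hs).injective h)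
  calc Nat.card τ.ker ≤ Nat.card (coverMap (K := K) cert hs).ker := by
        refine Nat.card_le_card_of_surjective (fun x => ⟨φ x.1, ?_⟩) fun z => ?_
        · rw [MonoidHom.mem_ker]; exact (DFunLike.congr_fun hφ x.1).trans x.2
        · obtain ⟨x, hx⟩ := hsurj z.1
          refine ⟨⟨x, ?_⟩, Subtype.ext hx⟩
          rw [MonoidHom.mem_ker, ← DFunLike.congr_fun hφ x, MonoidHom.comp_apply, hx]
          exact z.2
    _ ≤ Nat.card (stMap (K := K) cert hs).ker := by
        refine Nat.card_le_card_of_injective (fun x => ⟨coverEquiv cert hs x.1, ?_⟩) fun x y h =>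
          Subtype.ext ((coverEquiv cert hs).injective (congrArg Subtype.val h))
        rw [hker]; exact (coverMap_eq_one_iff cert hs x.1).1 x.2
    _ = _ := hcardk

end

/-- A field with at most three elements is prime. -/
theorem natCast_surjective {K : Type*} [Field K] [Fintype K] (h : Fintype.card K ≤ 3) (x : K) :
    ∃ n : ℕ, (n : K) = x := by
  have hp : (Fintype.card K).Prime := by
    have h1 : 1 < Fintype.card K := Fintype.one_lt_card
    interval_cases hq : Fintype.card K <;> norm_num
  have := Fact.mk hp
  have : CharP K (Fintype.card K) := charP_of_card_eq_prime rfl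
  refine ⟨((ZMod.ringEquiv K rfl).symm x).val, ?_⟩
  conv_rhs => rw [← (ZMod.ringEquiv K rfl).apply_symm_apply x]
  rw [← ZMod.natCast_zmod_val ((ZMod.ringEquiv K rfl).symm x), map_natCast, ZMod.natCast_zmod_val]

end Cfsg.Agent.Lib.ChevLiftSmall
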